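import Groth.Agent.Lib.FormalH7.Tower
import Mathlib.RingTheory.AdicCompletion.Basic

/-!
A tower receiving a module, with uniform lifting and vanishing bounds, computes the completion.
-/

set_option autoImplicit false

universe u

open Groth.Agent.FormalH7

noncomputable section

namespace Groth.Agent.FormalFnH7

variable {A : Type u} [CommRing A] (I : Ideal A) {H : Type u} [AddCommGroup H] [Module A H]
  (G : ℕ → Type u) [∀ n, AddCommGroup (G n)] (t : ∀ n, G (n + 1) →+ G n) (π : ∀ n, H →+ G n)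

theorem mem_towerIm_of_compat (x : ∀ n, G n) (hx : ∀ n, t n (x (n + 1)) = x n) :
    ∀ k n : ℕ, x n ∈ towerIm G t k n
  | 0, _ => AddSubgroup.mem_top _
  | k + 1, n => ⟨_, mem_towerIm_of_compat x hx k (n + 1), hx n⟩

/-- Lifting bounds kill `R¹lim`. -/
theorem subsingleton_limOne_of_lift (hπ : ∀ n x, t n (π (n + 1) x) = π n x)
    (hlift : ∀ n, ∃ m, n ≤ m ∧ ∀ y : ∀ k, G k, (∀ k, n ≤ k → k < m → t k (y (k + 1)) = y k) → ∃ x, π n x = y n) :
    Subsingleton (Formal2.limOne G t) := by
  choose m hm hl using hlift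
  have hs := surjective_towerDiff_of_stable G t (fun n => m n - n) fun n k _ a ha => by
    obtain ⟨y, hy, hc⟩ := exists_seq_of_mem_towerIm G t _ _ a ha
    obtain ⟨x, hx⟩ := hl n y fun j hj hj' => (hc j hj (by have := hm n; omega)).symm
    rw [hy] at hx
    exact hx ▸ mem_towerIm_of_compat G t (fun j => π j x) (fun j => hπ j x) k n
  refine subsingleton_of_forall_eq 0 fun z => ?_
  obtain ⟨y, rfl⟩ := QuotientAddGroup.mk_surjective z
  rw [QuotientAddGroup.eq_zero_iff]
  exact hs y

theorem le_compat {n : ℕ} (y : ∀ k, G k) (x : ∀ k, G k) {m : ℕ} (h : n ≤ m)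
    (hy : ∀ k, n ≤ k → k < m → t k (y (k + 1)) = y k) (hx : ∀ k, n ≤ k → k < m → t k (x (k + 1)) = x k)
    (e : x m = y m) : x n = y n := by
  induction m, h using Nat.le_induction with
  | base => exact e
  | succ m h ih =>
    refine ih (fun k hk hk' => hy k hk (by omega)) (fun k hk hk' => hx k hk (by omega)) ?_
    rw [← hx m h (by omega), ← hy m h (by omega), e]

/-- The comparison map from the completion. -/
theorem exists_compl_map (hπ : ∀ n x, t n (π (n + 1) x) = π n x)
    (hkill : ∀ n, ∀ x ∈ (I ^ (n + 1) • ⊤ : Submodule A H), π n x = 0)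
    (hlift : ∀ n, ∃ m, n ≤ m ∧ ∀ y : ∀ k, G k, (∀ k, n ≤ k → k < m → t k (y (k + 1)) = y k) → ∃ x, π n x = y n)
    (hzero : ∀ n, ∃ m, n ≤ m ∧ ∀ x, π m x = 0 → x ∈ (I ^ n • ⊤ : Submodule A H))
    (L : AddSubgroup (∀ n, G n)) (hL : ∀ y, y ∈ L ↔ ∀ n, t n (y (n + 1)) = y n) :
    ∃ β : AdicCompletion I H →+ L, Function.Injective β ∧ Function.Surjective β ∧
      ∀ (x : AdicCompletion I H) (n : ℕ) (h : H),
        AdicCompletion.eval I H (n + 1) x = Submodule.Quotient.mk h → (β x : ∀ n, G n) n = π n h := by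
  let st : ∀ n, (H ⧸ (I ^ (n + 1) • ⊤ : Submodule A H)) →+ G n := fun n =>
    QuotientAddGroup.lift (I ^ (n + 1) • ⊤ : Submodule A H).toAddSubgroup (π n) (hkill n)
  have hev : ∀ (x : AdicCompletion I H) {i j : ℕ}, i ≤ j → ∀ h : H,
      AdicCompletion.eval I H j x = Submodule.Quotient.mk h → AdicCompletion.eval I H i x = Submodule.Quotient.mk h := by
    intro x i j hij h hh
    have h2 : AdicCompletion.transitionMap I H hij (AdicCompletion.eval I H j x) = AdicCompletion.eval I H i x :=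
      x.2 hij
    rw [← h2, hh]
    rfl
  let β : AdicCompletion I H →+ L :=
    { toFun := fun x => ⟨fun n => st n (AdicCompletion.eval I H (n + 1) x), (hL _).2 fun n => by
        obtain ⟨h, hh⟩ := Submodule.Quotient.mk_surjective _ (AdicCompletion.eval I H (n + 1 + 1) x)
        rw [← hh, hev x (Nat.le_succ (n + 1)) h hh.symm]
        exact hπ n h⟩
      map_zero' := by ext n; simp
      map_add' := fun x y => by ext n; simp }
  have hβ : ∀ (x : AdicCompletion I H) (n : ℕ) (h : H),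
      AdicCompletion.eval I H (n + 1) x = Submodule.Quotient.mk h → (β x : ∀ n, G n) n = π n h := by
    intro x n h hh
    show st n (AdicCompletion.eval I H (n + 1) x) = _
    rw [hh]
    rfl
  refine ⟨β, (injective_iff_map_eq_zero _).2 fun x hx => ?_, fun y => ?_, hβ⟩
  · refine AdicCompletion.ext fun e => ?_
    obtain ⟨m, hm, hz⟩ := hzero e
    obtain ⟨h, hh⟩ := Submodule.Quotient.mk_surjective _ (AdicCompletion.eval I H (m + 1) x)
    have h0 : π m h = 0 := by
      rw [← hβ x m h hh.symm, hx]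
      rfl
    rw [AdicCompletion.val_zero_apply]
    exact (hev x (show e ≤ m + 1 by omega) h hh.symm).trans ((Submodule.Quotient.mk_eq_zero _).2 (hz h h0))
  · choose m hm hl using hlift
    choose M hM hz using hzero
    choose g hg using fun n => hl n y.1 fun k _ _ => (hL _).1 y.2 k
    have hdown : ∀ {n k : ℕ}, n ≤ k → π n (g k) = y.1 n := fun {n k} h =>
      le_compat G t y.1 (fun j => π j (g k)) h (fun j _ _ => (hL _).1 y.2 j) (fun j _ _ => hπ j (g k)) (hg k)
    have hcauchy : ∀ {e e' : ℕ}, e ≤ e' → g (M e') - g (M e) ∈ (I ^ e • ⊤ : Submodule A H) := by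
      intro e e' h
      rcases le_total (M e) (M e') with h' | h'
      · exact hz e _ (by rw [map_sub, hdown h', hdown le_rfl, sub_self])
      · have h1 := hz e' (g (M e') - g (M e)) (by rw [map_sub, hdown le_rfl, hdown h', sub_self])
        exact Submodule.smul_mono_left (Ideal.pow_le_pow_right h) h1
    refine ⟨⟨fun e => Submodule.Quotient.mk (g (M e)), fun {e e'} h => (Submodule.Quotient.eq _).2 (hcauchy h)⟩, ?_⟩
    refine Subtype.ext (funext fun n => ?_)
    exact (hβ _ n _ rfl).trans (hdown ((Nat.le_succ n).trans (hM (n + 1))))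

/-- The short exact sequence attached to the bounds. -/
theorem exists_ses_of_bounds (G' : ℕ → Type u) [∀ n, AddCommGroup (G' n)] (t' : ∀ n, G' (n + 1) →+ G' n)
    (hsub : Subsingleton (Formal2.limOne G' t')) (hπ : ∀ n x, t n (π (n + 1) x) = π n x)
    (hkill : ∀ n, ∀ x ∈ (I ^ (n + 1) • ⊤ : Submodule A H), π n x = 0)
    (hlift : ∀ n, ∃ m, n ≤ m ∧ ∀ y : ∀ k, G k, (∀ k, n ≤ k → k < m → t k (y (k + 1)) = y k) → ∃ x, π n x = y n)
    (hzero : ∀ n, ∃ m, n ≤ m ∧ ∀ x, π m x = 0 → x ∈ (I ^ n • ⊤ : Submodule A H))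
    (L : AddSubgroup (∀ n, G n)) (hL : ∀ y, y ∈ L ↔ ∀ n, t n (y (n + 1)) = y n) :
    ∃ (α : Formal2.limOne G' t' →+ AdicCompletion I H) (β : AdicCompletion I H →+ L),
      Function.Injective α ∧ Function.Surjective β ∧ α.range = β.ker ∧
      ∀ (x : AdicCompletion I H) (n : ℕ) (h : H),
        AdicCompletion.eval I H (n + 1) x = Submodule.Quotient.mk h → (β x : ∀ n, G n) n = π n h := by
  obtain ⟨β, hβi, hβs, hβ⟩ := exists_compl_map I G t π hπ hkill hlift hzero L hL
  refine ⟨0, β, fun a b _ => Subsingleton.elim a b, hβs, ?_, hβ⟩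
  ext x
  exact ⟨fun ⟨z, hz⟩ => hz ▸ map_zero β, fun hx => ⟨0, ((injective_iff_map_eq_zero _).1 hβi x hx).symm⟩⟩

end Groth.Agent.FormalFnH7
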