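import Groth.Agent.Lib.FormalExtH7.Topology

/-!
Connecting maps on cohomology, and torsion bounds, for coherent modules.
-/

set_option autoImplicit false
set_option linter.style.haveILetI false
set_option backward.isDefEq.respectTransparency false

universe u

open CategoryTheory CategoryTheory.Limits CategoryTheory.Abelian AlgebraicGeometry Opposite TopologicalSpace

noncomputable section

namespace Groth.Agent.FormalFnH7

open Groth.Agent.FormalH7 Groth.Agent.GExistH7 Groth.Agent.FormalExtH7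

variable {X : Scheme.{u}}

/-- A class lifts along a map of short exact sequences which kills the kernel on cohomology. -/
theorem exists_lift_of_ses {S₁ S₂ : ShortComplex X.Modules} (h₁ : S₁.ShortExact) (h₂ : S₂.ShortExact) (g : S₁ ⟶ S₂)
    (p : ℕ) (h : ∀ z, hmap S₁.f (p + 1) z = 0 → hmap g.τ₁ (p + 1) z = 0) (y : Coh.HH X S₁.X₃ p) :
    ∃ v, hmap S₂.g p v = hmap g.τ₃ p y := by
  have H₁ := CohFound.shortExact_abF h₁
  have H₂ := CohFound.shortExact_abF h₂
  let F := CohFound.abF X
  refine Ext.covariant_sequence_exact₃ _ H₂ (y.comp (Ext.mk₀ (F.map g.τ₃)) (add_zero p)) (rfl : p + 1 = p + 1) ?_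
  have e : (y.comp (Ext.mk₀ (F.map g.τ₃)) (add_zero p)).comp H₂.extClass (rfl : p + 1 = p + 1) =
      (y.comp H₁.extClass (rfl : p + 1 = p + 1)).comp (Ext.mk₀ (F.map g.τ₁)) (add_zero (p + 1)) := by
    rw [Ext.comp_assoc _ _ _ (add_zero p) (zero_add 1) (by omega), Ext.comp_assoc _ _ _ rfl (add_zero 1) (by omega)]
    exact congrArg (fun a => y.comp a (rfl : p + 1 = p + 1))
      (ShortComplex.ShortExact.extClass_naturality H₁ H₂ (F.mapShortComplex.map g)).symm
  rw [e]
  refine h _ ?_
  change (y.comp H₁.extClass (rfl : p + 1 = p + 1)).comp (Ext.mk₀ (F.map S₁.f)) (add_zero (p + 1)) = 0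
  rw [Ext.comp_assoc _ _ _ rfl (add_zero 1) (by omega)]
  exact (congrArg (fun a => y.comp a (rfl : p + 1 = p + 1)) H₁.extClass_comp).trans (Ext.comp_zero _ _ _ _ _)

variable {A : Type u} [CommRing A] [X.Over (Spec (CommRingCat.of A))]

/-- Torsion in a finite module over a Noetherian ring is bounded. -/
theorem exists_torsion_bound {R : Type*} [CommRing R] {M : Type*} [AddCommGroup M] [Module R M]
    [IsNoetherian R M] (a : R) : ∃ c, ∀ (m : ℕ) (x : M), a ^ m • x = 0 → a ^ c • x = 0 := by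
  obtain ⟨c, hc⟩ := monotone_stabilizes_iff_noetherian.2 (inferInstance : IsNoetherian R M)
    ⟨fun n => LinearMap.ker (LinearMap.lsmul R M (a ^ n)), monotone_nat_of_le_succ fun n x hx => by
      simp only [LinearMap.mem_ker, LinearMap.lsmul_apply] at hx ⊢
      rw [pow_succ', mul_smul, hx, smul_zero]⟩
  refine ⟨c, fun m x hx => ?_⟩
  rcases le_total m c with h | h
  · obtain ⟨k, rfl⟩ := Nat.exists_eq_add_of_le h
    rw [pow_add, mul_comm, mul_smul, hx, smul_zero]
  · exact (hc m h).ge hx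

/-- Torsion in a coherent module on a Noetherian scheme is bounded. -/
theorem exists_torsion_bound_sheaf [IsNoetherian X] {M : X.Modules} (hM : Coh.IsCoh M) (a : A) :
    ∃ c, ∀ (m : ℕ) {W : X.Modules} (y : W ⟶ M), y ≫ Formal.smulMod A M (a ^ m) = 0 →
      y ≫ Formal.smulMod A M (a ^ c) = 0 := by
  obtain ⟨S, hS, hcov⟩ := M1.exists_finite_affine_iSup (X := X) (U := ⊤) (by simpa using isCompact_univ)
  have hloc : ∀ U : S, ∃ c, ∀ (m : ℕ) (x : Γ(M, (U.1 : X.Opens))),
      multHom X (U.1 : X.Opens) a ^ m • x = 0 → multHom X (U.1 : X.Opens) a ^ c • x = 0 := fun U => by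
    haveI : IsNoetherianRing Γ(X, (U.1 : X.Opens)) := IsLocallyNoetherian.component_noetherian U.1
    haveI := M1.finite_sections hM.1 hM.2 U.1.2
    exact exists_torsion_bound _
  choose c hc using hloc
  haveI := hS.fintype
  refine ⟨Finset.univ.sup c, fun m {W} y hy => ?_⟩
  suffices h : kernel.ι (Formal.smulMod A M (a ^ m)) ≫ Formal.smulMod A M (a ^ Finset.univ.sup c) = 0 by
    rw [← kernel.lift_ι _ y hy, Category.assoc, h, comp_zero]
  haveI : Coh.IsQCoh (kernel (Formal.smulMod A M (a ^ m))) := M1.isQCoh_kernel hM.1 hM.1 _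
  refine ModLimH13.hom_eq_zero_of_generators _ fun x => ?_
  obtain ⟨U, hU⟩ := TopologicalSpace.Opens.mem_iSup.1
    (show x ∈ (⨆ i : S, (i.1 : X.Opens)) by rw [← hcov]; trivial)
  refine ⟨(U.1 : X.Opens), Set.univ, hU, U.1.2, Submodule.span_univ, fun t _ => ?_⟩
  let s := (kernel.ι (Formal.smulMod A M (a ^ m))).app (U.1 : X.Opens) t
  have h0 : multHom X (U.1 : X.Opens) (a ^ m) • s = 0 :=
    congrArg (fun φ => φ.app (U.1 : X.Opens) t) (kernel.condition (Formal.smulMod A M (a ^ m)))
  show multHom X (U.1 : X.Opens) (a ^ Finset.univ.sup c) • s = 0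
  rw [map_pow] at h0 ⊢
  obtain ⟨k, hk⟩ := Nat.exists_eq_add_of_le (Finset.le_sup (f := c) (Finset.mem_univ U))
  rw [hk, pow_add, mul_comm, mul_smul, hc U m s h0, smul_zero]

end Groth.Agent.FormalFnH7
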