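import Groth.Agent.Lib.FormalFnH7.Pro
import Groth.Agent.Lib.FormalFnH7.Abstract

/-!
The theorem on formal functions for a coherent module with finite cohomology.
-/

set_option autoImplicit false
set_option linter.style.haveILetI false
set_option backward.isDefEq.respectTransparency false

universe u

open CategoryTheory CategoryTheory.Limits AlgebraicGeometry Opposite TopologicalSpace

noncomputable section

namespace Groth.Agent.FormalFnH7

open Groth.Agent.FormalH7 Groth.Agent.GExistH7 Groth.Agent.FormalExtH7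

variable {A : Type u} [CommRing A] {X : Scheme.{u}} [X.Over (Spec (CommRingCat.of A))] (I : Ideal A) (F : X.Modules)

/-- The transition maps of the adic quotients. -/
def pt {n m : ℕ} (h : n ≤ m) : modI (I ^ (m + 1)) F ⟶ modI (I ^ (n + 1)) F :=
  tle F (Ideal.pow_le_pow_right (by omega))

theorem hmap_pt_succ (p n : ℕ) (y : Formal.HHmodPow I F p (n + 1)) :
    hmap (pt I F (Nat.le_succ n)) p y = Formal.HHmodPowTrans I F p n y := by
  have h : pt I F (Nat.le_succ n) = Formal.modPowTrans I (n + 1) F :=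
    (isQuot_modIπ _ F).hom_ext ((π_tle _).trans (Formal.modPowπ_trans I (n + 1) F).symm)
  rw [h]
  rfl

theorem compat_le {p n m : ℕ} (x : ∀ k, Formal.HHmodPow I F p k)
    (hx : ∀ k, n ≤ k → k < m → Formal.HHmodPowTrans I F p k (x (k + 1)) = x k) (h : n ≤ m) :
    hmap (pt I F h) p (x m) = x n := by
  induction m, h using Nat.le_induction with
  | base =>
    rw [show pt I F (le_refl n) = 𝟙 _ from (isQuot_modIπ _ F).hom_ext ((π_tle _).trans (Category.comp_id _).symm)]
    exact hmap_id p _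
  | succ m h ih =>
    rw [← ih fun k hk hk' => hx k hk (by omega), ← hx m h (by omega), ← hmap_pt_succ, hmap_comp, pt, pt, pt, tle_tle]

/-- Uniform lifting and vanishing bounds for the adic quotients. -/
theorem exists_bounds [IsNoetherian X] [IsNoetherianRing A] (hF : Coh.IsCoh F)
    (hfin : ∀ p, Module.Finite A (Coh.HH X F p)) (p : ℕ) :
    (∀ n, ∃ (m : ℕ) (h : n ≤ m), ∀ y : Formal.HHmodPow I F p m,
      ∃ x, Formal.toHHmodPow I F p n x = hmap (pt I F h) p y) ∧
    (∀ n, ∃ m, n ≤ m ∧ ∀ x, Formal.toHHmodPow I F p m x = 0 → x ∈ (I ^ n • ⊤ : Submodule A (Coh.HH X F p))) := by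
  obtain ⟨J, hJ, hle, hcof, hP⟩ := exists_pro hF hfin I
  constructor
  · intro n
    obtain ⟨k, hk, hl⟩ := hP.lift p (n + 1)
    obtain ⟨l, hlJ⟩ := hcof k
    refine ⟨max n l, le_max_left _ _, fun y => ?_⟩
    have h1 : I ^ (max n l + 1) ≤ J k := (Ideal.pow_le_pow_right (by omega)).trans hlJ
    have h2 : J (n + 1) ≤ I ^ (n + 1) := hle _
    have h3 : J k ≤ J (n + 1) := hJ hk
    obtain ⟨x, hx⟩ := hl (hmap (tle F h1) p y)
    refine ⟨x, ?_⟩
    show hmap (modIπ (I ^ (n + 1)) F) p x = _
    rw [← π_tle (F := F) h2, ← hmap_comp, hx, hmap_comp, hmap_comp, pt, tle_tle, tle_tle]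
  · intro n
    obtain ⟨k, -, hz⟩ := hP.zero p n
    obtain ⟨l, hlJ⟩ := hcof k
    refine ⟨max n l, le_max_left _ _, fun x hx => Submodule.smul_mono_left (hle n) (hz x ?_)⟩
    have h1 : I ^ (max n l + 1) ≤ J k := (Ideal.pow_le_pow_right (by omega)).trans hlJ
    rw [← π_tle (F := F) h1, ← hmap_comp]
    exact (congrArg _ hx).trans (map_zero _)

theorem toHH_compat (p : ℕ) (x : Coh.HH X F p) (n : ℕ) :
    Formal.HHmodPowTrans I F p n (Formal.toHHmodPow I F p (n + 1) x) = Formal.toHHmodPow I F p n x :=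
  (Formal.toHHlim I F p x).2 n

end Groth.Agent.FormalFnH7
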