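import Groth.Agent.Lib.FormalFnH7.Connect
import Groth.Agent.Lib.GExistH7.Sys

/-!
Comparison of the towers `H^p(F)/J H^p(F)` and `H^p(F/J F)` for finite cohomology.
-/

set_option autoImplicit false
set_option linter.style.haveILetI false
set_option backward.isDefEq.respectTransparency false

universe u

open CategoryTheory CategoryTheory.Limits AlgebraicGeometry Opposite TopologicalSpace

noncomputable section

namespace Groth.Agent.FormalFnH7

open Groth.Agent.FormalH7 Groth.Agent.GExistH7 Groth.Agent.FormalExtH7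

variable {A : Type u} [CommRing A] {X : Scheme.{u}} [X.Over (Spec (CommRingCat.of A))] {F : X.Modules}

variable (F) in
/-- The map between quotients for an inclusion of ideals. -/
def tle {L L' : Ideal A} (h : L' ≤ L) : modI L' F ⟶ modI L F :=
  ((isQuot_modIπ L' F).desc_killed (modIπ L F) (killedBy_mono h (isQuot_modIπ L F).killed)).choose

@[reassoc]
theorem π_tle {L L' : Ideal A} (h : L' ≤ L) : modIπ L' F ≫ tle F h = modIπ L F :=
  ((isQuot_modIπ L' F).desc_killed (modIπ L F) (killedBy_mono h (isQuot_modIπ L F).killed)).choose_spec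

@[reassoc]
theorem tle_tle {L L' L'' : Ideal A} (h : L' ≤ L) (h' : L'' ≤ L') : tle F h' ≫ tle F h = tle F (h'.trans h) :=
  (isQuot_modIπ L'' F).hom_ext (by rw [π_tle_assoc, π_tle, π_tle])

theorem hmap_comp {M N P : X.Modules} (φ : M ⟶ N) (ψ : N ⟶ P) (p : ℕ) (x : Coh.HH X M p) :
    hmap ψ p (hmap φ p x) = hmap (φ ≫ ψ) p x := Formal.HHmap_comp φ ψ p x

theorem hmap_zero {M N : X.Modules} (p : ℕ) (x : Coh.HH X M p) : hmap (0 : M ⟶ N) p x = 0 := by
  have h := hmap_add (0 : M ⟶ N) 0 p x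
  rw [add_zero, left_eq_add] at h
  exact h

theorem hmap_id {M : X.Modules} (p : ℕ) (x : Coh.HH X M p) : hmap (𝟙 M) p x = x := by
  change Sheaf.H.map ((SheafOfModules.toSheaf X.ringCatSheaf).map (𝟙 M)) p x = x
  erw [CategoryTheory.Functor.map_id, Sheaf.H.map_id_apply]

theorem hmap_smulMod (M : X.Modules) (a : A) (p : ℕ) (x : Coh.HH X M p) :
    hmap (Formal.smulMod A M a) p x = a • x := rfl

/-- The ideal times the cohomology dies in the quotient. -/
theorem hmap_modIπ_of_mem {L : Ideal A} {p : ℕ} {x : Coh.HH X F p}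
    (hx : x ∈ (L • ⊤ : Submodule A (Coh.HH X F p))) : hmap (modIπ L F) p x = 0 := by
  refine Submodule.smul_induction_on hx (fun a ha z _ => ?_) fun u v hu hv => by rw [map_add, hu, hv, add_zero]
  rw [← hmap_smulMod, hmap_comp, (isQuot_modIπ L F).smul a ha, hmap_zero]

variable (F) in
/-- The towers `H^p(F)/J_n H^p(F)` and `H^p(F/J_n F)` agree as pro-systems. -/
structure Pro (J : ℕ → Ideal A) (hJ : Antitone J) : Prop where
  lift : ∀ p n, ∃ (m : ℕ) (h : n ≤ m), ∀ y : Coh.HH X (modI (J m) F) p,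
    ∃ x, hmap (modIπ (J n) F) p x = hmap (tle F (hJ h)) p y
  zero : ∀ p n, ∃ (m : ℕ), n ≤ m ∧ ∀ x, hmap (modIπ (J m) F) p x = 0 → x ∈ (J n • ⊤ : Submodule A (Coh.HH X F p))

theorem pro_bot : Pro F (fun _ => (⊥ : Ideal A)) antitone_const := by
  have h0 : ∀ a ∈ (⊥ : Ideal A), Formal.smulMod A F a ≫ 𝟙 F = 0 := fun a ha => by
    obtain rfl := (Submodule.mem_bot A).1 ha
    have h := smulMod_add (A := A) F 0 0
    rw [add_zero, left_eq_add] at h
    rw [h, zero_comp]
  obtain ⟨φ, hφ⟩ := (isQuot_modIπ ⊥ F).desc (𝟙 F) h0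
  have hid : φ ≫ modIπ (⊥ : Ideal A) F = 𝟙 _ :=
    (isQuot_modIπ ⊥ F).hom_ext (by rw [reassoc_of% hφ, Category.comp_id])
  refine ⟨fun p n => ⟨n, le_rfl, fun y => ⟨hmap φ p y, ?_⟩⟩, fun p n => ⟨n, le_rfl, fun x hx => ?_⟩⟩
  · rw [hmap_comp, hid, show tle F (antitone_const (le_refl n)) = 𝟙 _ from
      (isQuot_modIπ (⊥ : Ideal A) F).hom_ext (by rw [π_tle, Category.comp_id])]
  · have h : x = hmap φ p (hmap (modIπ (⊥ : Ideal A) F) p x) := by
      rw [hmap_comp, hφ, hmap_id]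
    rw [h, hx, map_zero]
    exact zero_mem _

/-- Adjoining the powers of an element. -/
def adj (J : ℕ → Ideal A) (a : A) (n : ℕ) : Ideal A := J n ⊔ Ideal.span {a ^ n}

theorem antitone_adj {J : ℕ → Ideal A} (hJ : Antitone J) (a : A) : Antitone (adj J a) := fun n m h =>
  sup_le_sup (hJ h) (Ideal.span_singleton_le_span_singleton.2 (pow_dvd_pow a h))

section step

variable (F) (J : ℕ → Ideal A) (a : A)

/-- The projection from `F/J_n` to `F/(J_n + a^n)`. -/
def qA (n : ℕ) : modI (J n) F ⟶ modI (adj J a n) F := tle F le_sup_left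

theorem isQuot_qA (n : ℕ) : IsQuot (Ideal.span {a ^ n}) (qA F J a n) := by
  have h : IsQuot (adj J a n) (qA F J a n) := IsQuot.of_comp ((isQuot_modIπ _ F).of_eq (π_tle _).symm)
  exact h.of_killed (isQuot_modIπ (J n) F).killed

/-- Multiplication by `a^n` onto the kernel of `qA`. -/
def eA (n : ℕ) : modI (J n) F ⟶ kernel (qA F J a n) :=
  kernel.lift _ (Formal.smulMod A (modI (J n) F) (a ^ n))
    ((isQuot_qA F J a n).smul _ (Ideal.mem_span_singleton_self _))

@[reassoc]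
theorem eA_ι (n : ℕ) : eA F J a n ≫ kernel.ι (qA F J a n) = Formal.smulMod A (modI (J n) F) (a ^ n) :=
  kernel.lift_ι _ _ _

instance epi_eA (n : ℕ) : Epi (eA F J a n) :=
  (isQuot_qA F J a n).exact_span_singleton.epi_kernelLift

theorem shortExact_qA (n : ℕ) :
    (ShortComplex.mk (kernel.ι (qA F J a n)) (qA F J a n) (kernel.condition _)).ShortExact :=
  haveI := (isQuot_qA F J a n).epi
  { exact := ShortComplex.exact_kernel _ }

variable {J}

/-- The division map from the kernel at a high stage. -/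
theorem exists_sigma [IsNoetherian X] (hF : Coh.IsCoh F) (hJ : Antitone J) (n : ℕ) :
    ∃ (m : ℕ) (h : n ≤ m) (σ : kernel (qA F J a m) ⟶ modI (J n) F),
      eA F J a m ≫ σ = tle F (hJ h) ≫ Formal.smulMod A (modI (J n) F) (a ^ (m - n)) := by
  obtain ⟨c, hc⟩ := exists_torsion_bound_sheaf (isCoh_modI (L := J n) hF) a
  refine ⟨n + c, Nat.le_add_right n c, ?_⟩
  have h0 : kernel.ι (eA F J a (n + c)) ≫ tle F (hJ (Nat.le_add_right n c)) ≫
      Formal.smulMod A (modI (J n) F) (a ^ (n + c - n)) = 0 := by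
    rw [Nat.add_sub_cancel_left, ← Category.assoc]
    refine hc (n + c) _ ?_
    rw [Category.assoc, ← smulMod_naturality, ← eA_ι, Category.assoc, kernel.condition_assoc, zero_comp]
  exact ⟨Abelian.epiDesc (eA F J a (n + c)) _ h0, Abelian.comp_epiDesc _ _ _⟩

theorem mem_adj_smul {p n : ℕ} (x h : Coh.HH X F p) (m : ℕ) (hnm : n ≤ m)
    (hx : x - a ^ m • h ∈ (J n • ⊤ : Submodule A (Coh.HH X F p))) :
    x ∈ (adj J a n • ⊤ : Submodule A (Coh.HH X F p)) := by
  have h1 : a ^ m • h ∈ (adj J a n • ⊤ : Submodule A (Coh.HH X F p)) :=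
    Submodule.smul_mem_smul (Submodule.mem_sup_right (Ideal.mem_span_singleton.2 (pow_dvd_pow a hnm))) trivial
  have h2 := add_mem (Submodule.smul_mono_left (N := (⊤ : Submodule A (Coh.HH X F p))) (le_sup_left : J n ≤ adj J a n) hx) h1
  rwa [sub_add_cancel] at h2

theorem pro_zero_step [IsNoetherian X] (hF : Coh.IsCoh F) (hJ : Antitone J) (hP : Pro F J hJ) (p n₀ : ℕ) :
    ∃ m, n₀ ≤ m ∧ ∀ x, hmap (modIπ (adj J a m) F) p x = 0 →
      x ∈ (adj J a n₀ • ⊤ : Submodule A (Coh.HH X F p)) := by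
  obtain ⟨n₁, h₁, hz⟩ := hP.zero p n₀
  obtain ⟨n₂, h₂, hl⟩ := hP.lift p n₁
  obtain ⟨m, h₃, σ, hσ⟩ := exists_sigma F a hF hJ n₂
  refine ⟨m, (h₁.trans h₂).trans h₃, fun x hx => ?_⟩
  haveI := (isQuot_qA F J a m).epi
  obtain ⟨z, hz'⟩ := exists_hmap_kernel (qA F J a m) p (hmap (modIπ (J m) F) p x)
    (by rw [hmap_comp, show modIπ (J m) F ≫ qA F J a m = modIπ (adj J a m) F from π_tle _, hx])
  obtain ⟨h, hh⟩ := hl (hmap σ p z)
  refine mem_adj_smul F a x h n₂ (h₁.trans h₂) (hz _ ?_)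
  have e : σ ≫ Formal.smulMod A (modI (J n₂) F) (a ^ n₂) = kernel.ι (qA F J a m) ≫ tle F (hJ h₃) := by
    rw [← cancel_epi (eA F J a m), reassoc_of% hσ, eA_ι_assoc, ← smulMod_mul, ← pow_add, smulMod_naturality,
      Nat.add_sub_cancel' h₃]
  have e2 : hmap (modIπ (J n₂) F) p x = a ^ n₂ • hmap σ p z := by
    rw [← hmap_smulMod, hmap_comp, e, ← hmap_comp, hz', hmap_comp, π_tle]
  rw [map_sub, hmap_smul, hh, ← hmap_smul, ← e2, hmap_comp, π_tle, sub_self]

/-- The map of short exact sequences between two stages. -/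
def stageMap (hJ : Antitone J) {n m : ℕ} (h : n ≤ m) :
    ShortComplex.mk (kernel.ι (qA F J a m)) (qA F J a m) (kernel.condition _) ⟶
      ShortComplex.mk (kernel.ι (qA F J a n)) (qA F J a n) (kernel.condition _) where
  τ₁ := kernel.map _ _ (tle F (hJ h)) (tle F (antitone_adj hJ a h)) (by simp only [qA, tle_tle])
  τ₂ := tle F (hJ h)
  τ₃ := tle F (antitone_adj hJ a h)
  comm₁₂ := kernel.lift_ι _ _ _
  comm₂₃ := by simp only [qA, tle_tle]

theorem pro_lift_step [IsNoetherian X] [IsNoetherianRing A] (hF : Coh.IsCoh F)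
    (hfin : ∀ p, Module.Finite A (Coh.HH X F p)) (hJ : Antitone J) (hP : Pro F J hJ) (p n₀ : ℕ) :
    ∃ (m : ℕ) (h : n₀ ≤ m), ∀ y : Coh.HH X (modI (adj J a m) F) p,
      ∃ x, hmap (modIπ (adj J a n₀) F) p x = hmap (tle F (antitone_adj hJ a h)) p y := by
  obtain ⟨t, ht, hlt⟩ := hP.lift p n₀
  obtain ⟨n₁, h₁, hz⟩ := hP.zero (p + 1) t
  obtain ⟨n₂, h₂, hl⟩ := hP.lift (p + 1) n₁
  haveI := hfin (p + 1)
  obtain ⟨c, hc⟩ := exists_torsion_bound (R := A)
    (M := Coh.HH X F (p + 1) ⧸ (J t • ⊤ : Submodule A (Coh.HH X F (p + 1)))) a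
  let n₃ := max n₂ (t + c)
  have hn₂ : n₂ ≤ n₃ := le_max_left _ _
  have hn₃ : t + c ≤ n₃ := le_max_right _ _
  obtain ⟨m, h₃, σ, hσ⟩ := exists_sigma F a hF hJ n₃
  have htm : t ≤ m := by omega
  refine ⟨m, ht.trans htm, fun y => ?_⟩
  have key : ∀ z, hmap (kernel.ι (qA F J a m)) (p + 1) z = 0 →
      hmap (stageMap F a hJ htm).τ₁ (p + 1) z = 0 := by
    intro z hz0
    obtain ⟨h, hh⟩ := hl (hmap (tle F (hJ hn₂)) (p + 1) (hmap σ (p + 1) z))
    rw [hmap_comp (tle F (hJ hn₂)), tle_tle] at hh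
    have e : σ ≫ Formal.smulMod A (modI (J n₃) F) (a ^ n₃) = kernel.ι (qA F J a m) ≫ tle F (hJ h₃) := by
      rw [← cancel_epi (eA F J a m), reassoc_of% hσ, eA_ι_assoc, ← smulMod_mul, ← pow_add, smulMod_naturality,
        Nat.add_sub_cancel' h₃]
    have e0 : a ^ n₃ • hmap σ (p + 1) z = 0 := by
      rw [← hmap_smulMod, hmap_comp, e, ← hmap_comp, hz0, map_zero]
    have h5 : a ^ n₃ • h ∈ (J t • ⊤ : Submodule A (Coh.HH X F (p + 1))) :=
      hz _ (by rw [hmap_smul, hh, ← hmap_smul, e0, map_zero])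
    have h6 : a ^ (n₃ - t) • h ∈ (J t • ⊤ : Submodule A (Coh.HH X F (p + 1))) := by
      have h7 := hc n₃ (Submodule.Quotient.mk h)
        (by rw [← Submodule.Quotient.mk_smul, Submodule.Quotient.mk_eq_zero]; exact h5)
      rw [← Submodule.Quotient.mk_smul, Submodule.Quotient.mk_eq_zero] at h7
      obtain ⟨k, hk⟩ := Nat.exists_eq_add_of_le (show c ≤ n₃ - t by omega)
      rw [hk, pow_add, mul_comm (a ^ c), mul_smul]
      exact Submodule.smul_mem _ _ h7
    have e1 : (stageMap F a hJ htm).τ₁ =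
        σ ≫ tle F (hJ (h₂.trans hn₂)) ≫ tle F (hJ h₁) ≫
          Formal.smulMod A (modI (J t) F) (a ^ (n₃ - t)) ≫ eA F J a t := by
      rw [← cancel_epi (eA F J a m), ← cancel_mono (kernel.ι (qA F J a t))]
      simp only [Category.assoc]
      rw [(stageMap F a hJ htm).comm₁₂, eA_ι, reassoc_of% hσ, eA_ι_assoc]
      show Formal.smulMod A (modI (J m) F) (a ^ m) ≫ tle F (hJ htm) = _
      rw [← smulMod_mul, ← pow_add, tle_tle_assoc, smulMod_naturality_assoc, tle_tle_assoc, ← smulMod_mul,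
        ← pow_add, smulMod_naturality, show t + (n₃ - t) + (m - n₃) = m by omega]
    rw [e1, ← hmap_comp, ← hmap_comp, ← hh, hmap_comp (modIπ (J n₁) F), π_tle_assoc, ← hmap_comp, ← hmap_comp,
      hmap_smulMod, ← hmap_smul, hmap_modIπ_of_mem h6, map_zero]
  obtain ⟨v, hv⟩ := exists_lift_of_ses (shortExact_qA F J a m) (shortExact_qA F J a t) (stageMap F a hJ htm) p key y
  obtain ⟨x, hx⟩ := hlt v
  refine ⟨x, ?_⟩
  have e3 : modIπ (J n₀) F ≫ tle F (le_sup_left : J n₀ ≤ adj J a n₀) = modIπ (adj J a n₀) F := π_tle _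
  have l1 : adj J a t ≤ adj J a n₀ := antitone_adj hJ a ht
  have l2 : adj J a m ≤ adj J a t := antitone_adj hJ a htm
  rw [← e3, ← hmap_comp, hx, hmap_comp, tle_tle]
  rw [← tle_tle l1 l2, ← hmap_comp]
  have hv' : hmap (qA F J a t) p v = hmap (tle F (antitone_adj hJ a htm)) p y := hv
  rw [← hv', hmap_comp, qA, tle_tle]

end step

theorem pro_adj [IsNoetherian X] [IsNoetherianRing A] (hF : Coh.IsCoh F)
    (hfin : ∀ p, Module.Finite A (Coh.HH X F p)) {J : ℕ → Ideal A} (hJ : Antitone J) (hP : Pro F J hJ) (a : A) :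
    Pro F (adj J a) (antitone_adj hJ a) :=
  ⟨pro_lift_step F a hF hfin hJ hP, pro_zero_step F a hF hJ hP⟩

/-- Every ideal has a cofinal sequence for which the towers agree. -/
theorem exists_pro [IsNoetherian X] [IsNoetherianRing A] (hF : Coh.IsCoh F)
    (hfin : ∀ p, Module.Finite A (Coh.HH X F p)) (I : Ideal A) :
    ∃ (J : ℕ → Ideal A) (hJ : Antitone J), (∀ n, J n ≤ I ^ n) ∧ (∀ n, ∃ m, I ^ m ≤ J n) ∧ Pro F J hJ := by
  classical
  obtain ⟨s, rfl⟩ := IsNoetherian.noetherian I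
  induction s using Finset.induction_on with
  | empty =>
    refine ⟨fun _ => ⊥, antitone_const, fun n => bot_le, fun n => ⟨1, ?_⟩, pro_bot⟩
    simp
  | @insert a s _ ih =>
    obtain ⟨J, hJ, hle, hcof, hP⟩ := ih
    have he : (Submodule.span A ((insert a s : Finset A) : Set A) : Ideal A) = Submodule.span A (s : Set A) ⊔ Ideal.span {a} := by
      rw [Finset.coe_insert, Submodule.span_insert, sup_comm]
    rw [he]
    refine ⟨adj J a, antitone_adj hJ a, fun n => sup_le ((hle n).trans (Ideal.pow_right_mono le_sup_left n)) ?_,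
      fun n => ?_, pro_adj hF hfin hJ hP a⟩
    · rw [Ideal.span_le, Set.singleton_subset_iff]
      exact Ideal.pow_mem_pow (Submodule.mem_sup_right (Ideal.mem_span_singleton_self a)) n
    · obtain ⟨m, hm⟩ := hcof n
      refine ⟨m + n, Ideal.sup_pow_add_le_pow_sup_pow.trans (sup_le_sup hm ?_)⟩
      rw [Ideal.span_singleton_pow]

end Groth.Agent.FormalFnH7
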